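import Cfsg.Agent.H6.Cert
import Cfsg.Agent.H6.A8P.Pres

set_option autoImplicit false
set_option maxRecDepth 100000
set_option Elab.async false

namespace Cfsg.H6.A8P.C3

noncomputable def get (y : ℕ) : ℕ := (sel (nat_lit 1) y (nat_lit 0xa00000000000009000000000000080000000000000700000000000006000000000000050000000000000000000000000000000000000000) (nat_lit 0x200000200000202000002000002030000020000020300000200000204000002000002040000020000020100000100000201000002000001020000010000010200000100000103000001000001030000010000010400000000000104000001000000030000000000000300000000000002000000000000020000000000000100000000000001000000000000))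
noncomputable def gs (y : ℕ) : ℕ := (sel (nat_lit 2) y (sel (nat_lit 1) y (nat_lit 0x0) (nat_lit 0x0)) (sel (nat_lit 3) y (nat_lit 0x0) (sel (nat_lit 4) y (nat_lit 0x0) (nat_lit 0x80000098000009800000980000098000009800000980000098000009800000980000098000009800000980000098000009800000980000098000009800000980000098000009800000980000098000008000020c000020600002030000207000020b000020d8000007000020c0000209000020d8000006000020c000020600002010000207000020d8000000800000500002060000203000020100002030000201000020780000040000206000020500002078000000800000300001068000002000010480000010000102))))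
noncomputable def gd (_y : ℕ) : ℕ := (nat_lit 0x20c00002060000000)
noncomputable def gwh (y : ℕ) : ℕ := (sel (nat_lit 4) y (sel (nat_lit 2) y (sel (nat_lit 1) y (nat_lit 0x501000001001000) (nat_lit 0x702000001001001)) (sel (nat_lit 3) y (nat_lit 0x903000001001002) (nat_lit 0x4030403000004000003))) (sel (nat_lit 6) y (sel (nat_lit 5) y (nat_lit 0x4010201020402000006001004) (nat_lit 0x10401040104000006000005)) (sel (nat_lit 7) y (nat_lit 0x1030103000004000006) (sel (nat_lit 8) y (nat_lit 0x1020402040102000002005004) (nat_lit 0x7)))))
noncomputable def gc (y : ℕ) : ℕ := (sel (nat_lit 2) y (sel (nat_lit 1) y (nat_lit 0x20d000020c0000200) (nat_lit 0x212000020a0000202)) (sel (nat_lit 3) y (nat_lit 0x21000002080000204) (nat_lit 0x20e00002070000206)))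

theorem b0 : allR (blk get gs (gwB gwh 9) gd 10927685746443616478429440) 4 1 = true := by decide +kernel

theorem c0 : allR (clo get gc 3 576 1) 0 4 = true := by decide +kernel

def sg : List (List ℕ) := [[], [1], [2], [3], [4], [1], [1], [2], [2], [3], [3]]

def BL : List ℕ := [0x105, 0x207, 0x309, 0x4030403, 0x1020102040204, 0x10401040104, 0x1030103, 0x0]

def Sub : List (List ℕ) := [[1], [2], [3]]

theorem hA : prepA 1694364648734976 A8P.R sg 10927685746443616478429440 BL Sub get gd = true := by decide +kernel

theorem hw : allR (okW BL gwh) 0 9 = true := by decide +kernel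

theorem hb : ∀ b, 4 ≤ b → b < 5 → blk get gs (gwB gwh 9) gd 10927685746443616478429440 b = true :=
  (allR_range b0 (by norm_num : 4 + 1 = 5))

def X : List (List ℕ) := [[1], [2], [3], [4]]

theorem hC : prepC sg 10927685746443616478429440 X 4 3 1 = true := by decide +kernel

theorem hc : ∀ t, 0 ≤ t → t < 4 * 1 → clo get gc 3 576 1 t = true :=
  (allR_range c0 (by norm_num : 0 + 4 = 4))

theorem cover {G : Type*} [Group G] {ev : ℕ → G} (hev : Good ev 1694364648734976) (hR : Rels ev A8P.R) :
    Cover (gen ev Sub) (gen ev X) 3 :=
  cert_cover hev hR hA hC hw hb (by norm_num) hc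


end Cfsg.H6.A8P.C3
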